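import Mathlib.FieldTheory.Fixed
import Mathlib.FieldTheory.Galois.Basic
import Mathlib.RingTheory.Trace.Basic
import Mathlib.RingTheory.TensorProduct.Basic
import Mathlib.LinearAlgebra.TensorProduct.Basis
import Mathlib.LinearAlgebra.TensorProduct.Tower
import Groth.Prelude.Def_GalDesc

/-!
# Galois descent for semilinear actions (Speiser)
-/

set_option autoImplicit false
universe u v w x

open scoped TensorProduct

namespace Groth.Agent.GalDescLib

variable {k : Type u} [Field k] {K : Type v} [Field K] [Algebra k K]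
  [FiniteDimensional k K] [IsGalois k K]

theorem span_range_apply_eq_top :
    Submodule.span K (Set.range fun (c : K) (σ : K ≃ₐ[k] K) => σ c) = ⊤ := by
  classical
  by_contra h
  obtain ⟨f, hf0, hf⟩ := Submodule.exists_le_ker_of_lt_top _ (lt_top_iff_ne_top.2 h)
  refine hf0 (LinearMap.pi_ext' fun σ => LinearMap.ext_ring ?_)
  have hLI := (linearIndependent_toLinearMap k K K).comp
    (fun σ : K ≃ₐ[k] K => (σ : K →ₐ[k] K)) AlgEquiv.coe_algHom_injective
  refine (Fintype.linearIndependent_iff.1 hLI (fun σ => f (Pi.single σ 1)) ?_ σ).trans (by simp)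
  refine LinearMap.ext fun c => ?_
  have hc : f (fun σ : K ≃ₐ[k] K => σ c) = 0 := hf (Submodule.subset_span ⟨c, rfl⟩)
  rw [pi_eq_sum_univ' (fun σ : K ≃ₐ[k] K => σ c)] at hc
  simpa [mul_comm] using hc

section Semilinear

variable {M : Type w} [AddCommGroup M] [Module K M]

variable (k K M) in
/-- A semilinear action given as a family of additive maps. -/
structure SemiAction where
  T : (K ≃ₐ[k] K) → M →+ M
  map_smul : ∀ σ (c : K) (m : M), T σ (c • m) = σ c • T σ m
  map_one : ∀ m, T 1 m = m
  map_mul : ∀ σ τ m, T (σ * τ) m = T σ (T τ m)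

variable (A : SemiAction k K M)

/-- The fixed vectors of a semilinear action. -/
def SemiAction.Fixed (m : M) : Prop := ∀ σ, A.T σ m = m

theorem SemiAction.fixed_sum_smul (c : K) (m : M) : A.Fixed (∑ σ, A.T σ (c • m)) := fun τ => by
  rw [map_sum]
  simp_rw [← A.map_mul]
  exact Fintype.sum_equiv (Equiv.mulLeft τ) _ _ (fun σ => rfl)

theorem SemiAction.span_fixed : Submodule.span K {m | A.Fixed m} = ⊤ := by
  classical
  refine eq_top_iff.2 fun m _ => ?_
  suffices H : ∀ g : (K ≃ₐ[k] K) → K, ∑ σ, g σ • A.T σ m ∈ Submodule.span K {m | A.Fixed m} by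
    have h1 := H (Pi.single 1 1)
    rw [Finset.sum_eq_single (1 : K ≃ₐ[k] K) (fun σ _ hσ => by simp [Pi.single_eq_of_ne hσ])
      (by simp), Pi.single_eq_same, one_smul, A.map_one] at h1
    exact h1
  intro g
  have hg : g ∈ Submodule.span K (Set.range fun (c : K) (σ : K ≃ₐ[k] K) => σ c) := by
    rw [span_range_apply_eq_top]; trivial
  induction hg using Submodule.span_induction with
  | mem x hx =>
    obtain ⟨c, rfl⟩ := hx
    simp_rw [← A.map_smul]
    exact Submodule.subset_span (A.fixed_sum_smul c m)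
  | zero => simp
  | add x y _ _ hx hy => simpa [add_smul, Finset.sum_add_distrib] using add_mem hx hy
  | smul c x _ hx => simpa [mul_smul, ← Finset.smul_sum] using Submodule.smul_mem _ c hx

variable [Module k M] [IsScalarTower k K M]
variable {W : Type x} [AddCommGroup W] [Module k W] (ι : W →ₗ[k] M)

theorem SemiAction.liftBaseChange_surjective (hfix : ∀ m, A.Fixed m → m ∈ LinearMap.range ι) :
    Function.Surjective (ι.liftBaseChange K) := by
  rw [← LinearMap.range_eq_top, eq_top_iff, ← A.span_fixed, Submodule.span_le]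
  intro m hm
  obtain ⟨w, rfl⟩ := hfix m hm
  exact ⟨1 ⊗ₜ w, by simp⟩

theorem SemiAction.linearIndependent_of_fixed {J : Type*} {f : J → M} (hf : ∀ j, A.Fixed (f j))
    (hli : LinearIndependent k f) : LinearIndependent K f := by
  classical
  rw [linearIndependent_iff'] at hli ⊢
  intro s g hg j hj
  by_contra hne
  have htr : ∀ d : K, Algebra.trace k K (d * g j) = 0 := fun d => by
    refine hli s (fun j => Algebra.trace k K (d * g j)) ?_ j hj
    calc ∑ i ∈ s, Algebra.trace k K (d * g i) • f i
        = ∑ i ∈ s, (∑ σ : K ≃ₐ[k] K, σ (d * g i)) • f i := Finset.sum_congr rfl fun i _ => by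
          rw [← trace_eq_sum_automorphisms, algebraMap_smul]
      _ = ∑ σ : K ≃ₐ[k] K, A.T σ (d • ∑ i ∈ s, g i • f i) := by
          simp_rw [Finset.smul_sum, smul_smul, map_sum, A.map_smul, Finset.sum_smul]
          rw [Finset.sum_comm]
          refine Finset.sum_congr rfl fun σ _ => Finset.sum_congr rfl fun i _ => ?_
          rw [hf i σ]
      _ = 0 := by simp [hg]
  exact (traceForm_nondegenerate k K).1 (g j) |> fun h => hne (h fun d => by
    rw [Algebra.traceForm_apply, mul_comm]; exact htr d)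

theorem SemiAction.liftBaseChange_injective (hι : Function.Injective ι)
    (hfix : ∀ w, A.Fixed (ι w)) : Function.Injective (ι.liftBaseChange K) := by
  let b := Module.Free.chooseBasis k W
  have hli : LinearIndependent K (fun j => ι (b j)) :=
    A.linearIndependent_of_fixed (fun j => hfix _)
      (b.linearIndependent.map' ι (LinearMap.ker_eq_bot.2 hι))
  rw [injective_iff_map_eq_zero]
  intro z hz
  have h1 : ∀ y, ι.liftBaseChange K y =
      Finsupp.linearCombination K (fun j => ι (b j)) ((b.baseChange K).repr y) := by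
    intro y
    conv_lhs => rw [← (b.baseChange K).linearCombination_repr y]
    rw [Finsupp.apply_linearCombination]
    congr 1
    congr 1
    funext j
    simp
  rw [h1] at hz
  have h0 : (b.baseChange K).repr z = 0 :=
    LinearMap.ker_eq_bot.1 (linearIndependent_iff_ker.1 hli) (by rw [hz, map_zero])
  simpa using h0

variable (hι : Function.Injective ι) (hW : ∀ m, m ∈ LinearMap.range ι ↔ A.Fixed m)

/-- Speiser's descent isomorphism. -/
noncomputable def SemiAction.descEquiv : (K ⊗[k] W) ≃ₗ[K] M :=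
  LinearEquiv.ofBijective (ι.liftBaseChange K)
    ⟨A.liftBaseChange_injective ι hι (fun w => (hW _).1 ⟨w, rfl⟩),
      A.liftBaseChange_surjective ι (fun m h => (hW m).2 h)⟩

theorem SemiAction.descEquiv_tmul (c : K) (w : W) :
    A.descEquiv ι hι hW (c ⊗ₜ w) = c • ι w := by
  simp [SemiAction.descEquiv]

theorem SemiAction.descEquiv_smul (σ : K ≃ₐ[k] K) (z : K ⊗[k] W) :
    A.descEquiv ι hι hW (σ • z) = A.T σ (A.descEquiv ι hι hW z) := by
  induction z using TensorProduct.induction_on with
  | zero => simp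
  | tmul c w =>
    rw [TensorProduct.smul_tmul', A.descEquiv_tmul, A.descEquiv_tmul, A.map_smul,
      (hW _).1 ⟨w, rfl⟩ σ]
    rfl
  | add x y hx hy => simp only [smul_add, map_add, hx, hy]

end Semilinear

section Twist

variable {M : Type w} [AddCommGroup M] [Module K M] [DistribMulAction (K ≃ₐ[k] K) M]
  [SMulDistribClass (K ≃ₐ[k] K) K M]

omit [FiniteDimensional k K] [IsGalois k K] in
theorem cocycle_one_apply (a : GpH1.OneCocycle (K ≃ₐ[k] K) (M ≃ₗ[K] M)) : a 1 = 1 := by
  have h := a.2 1 1
  rw [one_mul, one_smul] at h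
  exact left_eq_mul.1 h

/-- The action twisted by a cocycle. -/
def twist (a : GpH1.OneCocycle (K ≃ₐ[k] K) (M ≃ₗ[K] M)) : SemiAction k K M where
  T σ := { toFun := fun m => a σ (σ • m)
           map_zero' := by simp
           map_add' := fun x y => by simp }
  map_smul σ c m := by
    show a σ (σ • c • m) = σ c • a σ (σ • m)
    rw [smul_distrib_smul σ c m, map_smul, AlgEquiv.smul_def]
  map_one m := by
    show a 1 ((1 : K ≃ₐ[k] K) • m) = m
    rw [one_smul, cocycle_one_apply a]; rfl
  map_mul σ τ m := by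
    show a (σ * τ) ((σ * τ) • m) = a σ (σ • a τ (τ • m))
    rw [a.2 σ τ]
    show a σ ((σ • a τ) ((σ * τ) • m)) = _
    rw [GalDesc.conj_smul_apply, mul_smul, inv_smul_smul]

omit [FiniteDimensional k K] [IsGalois k K] in
theorem twist_fixed_iff [Module k M] [IsScalarTower k K M]
    (a : GpH1.OneCocycle (K ≃ₐ[k] K) (M ≃ₗ[K] M)) (m : M) :
    (twist a).Fixed m ↔ m ∈ GalDesc.fixedSub a := Iff.rfl

variable [Module k M] [IsScalarTower k K M]
variable {W : Type x} [AddCommGroup W] [Module k W] (ι : W →ₗ[k] M) (hι : Function.Injective ι)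
  (a : GpH1.OneCocycle (K ≃ₐ[k] K) (M ≃ₗ[K] M))
  (hW : LinearMap.range ι = GalDesc.fixedSub a)

/-- The trivialisation of the descended space. -/
noncomputable def descTriv : M ≃ₗ[K] (K ⊗[k] W) :=
  ((twist a).descEquiv ι hι (fun m => by rw [hW, twist_fixed_iff])).symm

theorem descTriv_symm_tmul (c : K) (w : W) : (descTriv ι hι a hW).symm (c ⊗ₜ w) = c • ι w := by
  simp [descTriv, SemiAction.descEquiv_tmul]

theorem descTriv_cocycle (σ : K ≃ₐ[k] K) (m : M) :
    (descTriv ι hι a hW).symm (σ • descTriv ι hι a hW (σ⁻¹ • m)) = a σ m := by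
  simp only [descTriv, LinearEquiv.symm_symm]
  rw [SemiAction.descEquiv_smul, LinearEquiv.apply_symm_apply]
  show a σ (σ • σ⁻¹ • m) = a σ m
  rw [smul_inv_smul]

theorem cocycle_descTriv : GalDesc.cocycle k (descTriv ι hι a hW) = a :=
  GpH1.OneCocycle.ext fun σ => LinearEquiv.ext fun m => by
    rw [GalDesc.cocycle_apply, descTriv_cocycle]

end Twist

section Equivariant

variable {W : Type w} [AddCommGroup W] [Module k W] {W' : Type x} [AddCommGroup W'] [Module k W']

omit [FiniteDimensional k K] [IsGalois k K] in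
theorem baseChange_repr_smul {J : Type*} (b : Module.Basis J k W) (σ : K ≃ₐ[k] K) (z : K ⊗[k] W)
    (j : J) : (b.baseChange K).repr (σ • z) j = σ ((b.baseChange K).repr z j) := by
  induction z using TensorProduct.induction_on with
  | zero => simp
  | tmul c w =>
    rw [TensorProduct.smul_tmul']
    simp [Module.Basis.baseChange, AlgEquiv.smul_def, Algebra.smul_def]
  | add x y hx hy => simp [smul_add, hx, hy]

omit [FiniteDimensional k K] [IsGalois k K] in
theorem one_tmul_injective : Function.Injective (fun w : W => (1 : K) ⊗ₜ[k] w) := by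
  intro x y h
  let b := Module.Free.chooseBasis k W
  refine b.repr.injective (Finsupp.ext fun j => (algebraMap k K).injective ?_)
  have := congrArg (fun z => (b.baseChange K).repr z j) h
  simpa [Module.Basis.baseChange, Algebra.smul_def] using this

theorem exists_tmul_of_fixed (z : K ⊗[k] W) (h : ∀ σ : K ≃ₐ[k] K, σ • z = z) :
    ∃ w : W, z = 1 ⊗ₜ w := by
  classical
  let b := Module.Free.chooseBasis k W
  have h1 : ∀ j, (b.baseChange K).repr z j ∈ Set.range (algebraMap k K) := fun j =>
    (IsGalois.mem_range_algebraMap_iff_fixed _).2 fun σ => by rw [← baseChange_repr_smul, h σ]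
  choose c hc using h1
  refine ⟨∑ j ∈ ((b.baseChange K).repr z).support, c j • b j, ?_⟩
  conv_lhs => rw [← (b.baseChange K).linearCombination_repr z]
  rw [Finsupp.linearCombination_apply, Finsupp.sum, TensorProduct.tmul_sum]
  refine Finset.sum_congr rfl fun j _ => ?_
  rw [TensorProduct.tmul_smul, Module.Basis.baseChange_apply, ← hc j, algebraMap_smul]

/-- An equivariant isomorphism of base changes descends. -/
theorem exists_descend_equiv (E : (K ⊗[k] W) ≃ₗ[K] (K ⊗[k] W'))
    (hE : ∀ (σ : K ≃ₐ[k] K) z, E (σ • z) = σ • E z) :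
    ∃ e : W ≃ₗ[k] W', ∀ w, E (1 ⊗ₜ w) = 1 ⊗ₜ e w := by
  have h1 : ∀ w : W, ∃ w' : W', E (1 ⊗ₜ w) = 1 ⊗ₜ w' := fun w =>
    exists_tmul_of_fixed _ fun σ => by rw [← hE, TensorProduct.smul_tmul', smul_one]
  have hEs : ∀ (σ : K ≃ₐ[k] K) z, E.symm (σ • z) = σ • E.symm z := fun σ z => by
    apply E.injective
    rw [hE, E.apply_symm_apply, E.apply_symm_apply]
  have h2 : ∀ w' : W', ∃ w : W, E.symm (1 ⊗ₜ w') = 1 ⊗ₜ w := fun w =>
    exists_tmul_of_fixed _ fun σ => by rw [← hEs, TensorProduct.smul_tmul', smul_one]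
  choose f hf using h1
  choose g hg using h2
  have hadd : ∀ x y : W, f (x + y) = f x + f y := fun x y => one_tmul_injective (k := k) (K := K) <| by
    show (1 : K) ⊗ₜ[k] f (x + y) = 1 ⊗ₜ (f x + f y)
    rw [TensorProduct.tmul_add, ← hf, ← hf, ← hf, TensorProduct.tmul_add, map_add]
  have hsmul : ∀ (r : k) (x : W), f (r • x) = r • f x := fun r x =>
    one_tmul_injective (k := k) (K := K) <| by
      show (1 : K) ⊗ₜ[k] f (r • x) = 1 ⊗ₜ (r • f x)
      rw [TensorProduct.tmul_smul, ← hf, ← hf, TensorProduct.tmul_smul,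
        ← algebraMap_smul K r, map_smul, algebraMap_smul]
  let fl : W →ₗ[k] W' := { toFun := f, map_add' := hadd, map_smul' := hsmul }
  have hgf : ∀ w : W, g (f w) = w := fun w => one_tmul_injective (k := k) (K := K) <| by
    show (1 : K) ⊗ₜ[k] g (f w) = 1 ⊗ₜ w
    rw [← hg, ← hf, E.symm_apply_apply]
  have hfg : ∀ w : W', f (g w) = w := fun w => one_tmul_injective (k := k) (K := K) <| by
    show (1 : K) ⊗ₜ[k] f (g w) = 1 ⊗ₜ w
    rw [← hf, ← hg, E.apply_symm_apply]
  exact ⟨{ fl with invFun := g, left_inv := hgf, right_inv := hfg }, hf⟩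

omit [FiniteDimensional k K] [IsGalois k K] in
/-- Cohomologous cocycles give an equivariant comparison. -/
theorem equivariant_of_cohomologous {M : Type*} [AddCommGroup M] [Module K M]
    [DistribMulAction (K ≃ₐ[k] K) M] [SMulDistribClass (K ≃ₐ[k] K) K M]
    (g : M ≃ₗ[K] (K ⊗[k] W)) (g' : M ≃ₗ[K] (K ⊗[k] W')) (c : M ≃ₗ[K] M)
    (h : ∀ σ : K ≃ₐ[k] K, GalDesc.cocycle k g σ = c⁻¹ * GalDesc.cocycle k g' σ * σ • c)
    (σ : K ≃ₐ[k] K) (z : K ⊗[k] W) :
    g' (c (g.symm (σ • z))) = σ • g' (c (g.symm z)) := by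
  have h1 := LinearEquiv.congr_fun (h σ) (σ • g.symm z)
  change GalDesc.cocycle k g σ (σ • g.symm z) =
    c.symm (GalDesc.cocycle k g' σ ((σ • c) (σ • g.symm z))) at h1
  rw [GalDesc.cocycle_apply, GalDesc.cocycle_apply, GalDesc.conj_smul_apply, inv_smul_smul,
    inv_smul_smul, g.apply_symm_apply] at h1
  rw [h1, c.apply_symm_apply, g'.apply_symm_apply]

end Equivariant

end Groth.Agent.GalDescLib
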