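import Mathlib.LinearAlgebra.Pi
import Mathlib.LinearAlgebra.Quotient.Basic
import Mathlib.Data.Fintype.Pi
import Mathlib.SetTheory.Cardinal.Finite
import Mathlib.Algebra.BigOperators.Fin
import Mathlib.Data.Finite.Sigma
import Mathlib.Data.Fintype.Sigma
import Mathlib.Order.Atoms.Finite

/-!
# Lovász cancellation for finite modules
-/

set_option autoImplicit false
universe u v w

namespace Groth.Agent.GalDescLib

variable {R : Type u} [Ring R]

theorem card_hom_eq {X : Type v} [AddCommGroup X] [Module R X] [Finite X] {Y : Type w}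
    [AddCommGroup Y] [Module R Y] [Finite Y] {d : ℕ} (hd : d ≠ 0)
    (e : (Fin d → X) ≃ₗ[R] (Fin d → Y)) (Z : Type v) [AddCommGroup Z] [Module R Z] [Finite Z] :
    Nat.card (Z →ₗ[R] X) = Nat.card (Z →ₗ[R] Y) := by
  have h1 : (Fin d → (Z →ₗ[R] X)) ≃ (Fin d → (Z →ₗ[R] Y)) :=
    { toFun := fun f i => (LinearMap.proj i) ∘ₗ e.toLinearMap ∘ₗ LinearMap.pi f
      invFun := fun f i => (LinearMap.proj i) ∘ₗ e.symm.toLinearMap ∘ₗ LinearMap.pi f
      left_inv := fun f => funext fun i => LinearMap.ext fun z => by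
        show e.symm (fun j => e (fun l => f l z) j) i = f i z
        rw [e.symm_apply_apply]
      right_inv := fun f => funext fun i => LinearMap.ext fun z => by
        show e (fun j => e.symm (fun l => f l z) j) i = f i z
        rw [e.apply_symm_apply] }
  have h2 := Nat.card_congr h1
  simp only [Nat.card_fun, Nat.card_fin] at h2
  exact Nat.pow_left_injective hd h2

theorem card_ker_ge {X : Type v} [AddCommGroup X] [Module R X] {Y : Type w}
    [AddCommGroup Y] [Module R Y] (N : Submodule R X) :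
    Nat.card {f : X →ₗ[R] Y // N ≤ LinearMap.ker f} = Nat.card ((X ⧸ N) →ₗ[R] Y) :=
  Nat.card_congr
    { toFun := fun f => N.liftQ f.1 f.2
      invFun := fun g => ⟨g ∘ₗ N.mkQ, fun x hx => by
        simp [(Submodule.Quotient.mk_eq_zero N).2 hx]⟩
      left_inv := fun f => Subtype.ext (LinearMap.ext fun x => rfl)
      right_inv := fun g => Submodule.linearMap_qext _ (LinearMap.ext fun x => rfl) }

theorem card_ker_ge_split {X : Type v} [AddCommGroup X] [Module R X] {Y : Type w}
    [AddCommGroup Y] [Module R Y] [Finite X] [Finite Y] [Fintype (Submodule R X)]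
    (N : Submodule R X) [DecidablePred fun M : Submodule R X => N < M] :
    Nat.card {f : X →ₗ[R] Y // N ≤ LinearMap.ker f} =
      Nat.card {f : X →ₗ[R] Y // LinearMap.ker f = N} +
        ∑ M : {M : Submodule R X // N < M}, Nat.card {f : X →ₗ[R] Y // LinearMap.ker f = M.1} := by
  classical
  haveI : Finite (X →ₗ[R] Y) := Finite.of_injective _ DFunLike.coe_injective
  rw [← Nat.card_sigma, ← Nat.card_sum]
  let F : {f : X →ₗ[R] Y // LinearMap.ker f = N} ⊕
      (Σ M : {M : Submodule R X // N < M}, {f : X →ₗ[R] Y // LinearMap.ker f = M.1}) →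
      {f : X →ₗ[R] Y // N ≤ LinearMap.ker f} :=
    Sum.elim (fun f => ⟨f.1, f.2.ge⟩) (fun p => ⟨p.2.1, p.1.2.le.trans p.2.2.ge⟩)
  refine (Nat.card_congr (Equiv.ofBijective F ⟨?_, fun f => ?_⟩)).symm
  · rintro (⟨f, hf⟩ | ⟨⟨M, hM⟩, f, hf⟩) (⟨g, hg⟩ | ⟨⟨M', hM'⟩, g, hg⟩) h <;>
      simp only [F, Sum.elim_inl, Sum.elim_inr, Subtype.mk.injEq] at h <;> subst h
    · rfl
    · exact absurd (hf.symm.trans hg) hM'.ne
    · exact absurd (hg.symm.trans hf) hM.ne
    · obtain rfl : M = M' := hf.symm.trans hg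
      rfl
  · by_cases h : LinearMap.ker f.1 = N
    · exact ⟨Sum.inl ⟨f.1, h⟩, rfl⟩
    · exact ⟨Sum.inr ⟨⟨_, lt_of_le_of_ne f.2 (Ne.symm h)⟩, f.1, rfl⟩, rfl⟩

theorem nonempty_linearEquiv_of_pow {X : Type v} [AddCommGroup X] [Module R X] [Finite X]
    {Y : Type w} [AddCommGroup Y] [Module R Y] [Finite Y] {d : ℕ} (hd : d ≠ 0)
    (e : (Fin d → X) ≃ₗ[R] (Fin d → Y)) : Nonempty (X ≃ₗ[R] Y) := by
  classical
  haveI hX : Finite (X →ₗ[R] X) := Finite.of_injective _ DFunLike.coe_injective
  haveI hY : Finite (X →ₗ[R] Y) := Finite.of_injective _ DFunLike.coe_injective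
  haveI : Finite (Submodule R X) := Finite.of_injective _ SetLike.coe_injective
  haveI := Fintype.ofFinite (Submodule R X)
  have hge : ∀ N : Submodule R X,
      Nat.card {f : X →ₗ[R] X // N ≤ LinearMap.ker f} =
        Nat.card {f : X →ₗ[R] Y // N ≤ LinearMap.ker f} := fun N => by
    haveI : Finite (X ⧸ N) := Finite.of_surjective _ (Submodule.Quotient.mk_surjective N)
    rw [card_ker_ge, card_ker_ge, card_hom_eq hd e (X ⧸ N)]
  have heq : ∀ N : Submodule R X,
      Nat.card {f : X →ₗ[R] X // LinearMap.ker f = N} =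
        Nat.card {f : X →ₗ[R] Y // LinearMap.ker f = N} := fun N => by
    induction N using WellFoundedGT.induction with
    | ind N ih =>
      have := hge N
      rw [card_ker_ge_split, card_ker_ge_split,
        Finset.sum_congr rfl (fun M _ => ih M.1 M.2)] at this
      omega
  have hpos : 0 < Nat.card {f : X →ₗ[R] Y // LinearMap.ker f = ⊥} := by
    rw [← heq]
    haveI : Nonempty {f : X →ₗ[R] X // LinearMap.ker f = ⊥} := ⟨⟨LinearMap.id, LinearMap.ker_id⟩⟩
    exact Nat.card_pos
  obtain ⟨⟨f, hf⟩⟩ := (Nat.card_pos_iff.1 hpos).1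
  have hcard : Nat.card X = Nat.card Y := by
    have h2 := Nat.card_congr e.toEquiv
    simp only [Nat.card_fun, Nat.card_fin] at h2
    exact Nat.pow_left_injective hd h2
  exact ⟨LinearEquiv.ofBijective f
    ((LinearMap.ker_eq_bot.1 hf).bijective_of_nat_card_le hcard.ge)⟩

end Groth.Agent.GalDescLib
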