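import Groth.Agent.GalDescLib.Lovasz
import Groth.Agent.GalDescLib.Core
import Mathlib.Algebra.MvPolynomial.Funext
import Mathlib.LinearAlgebra.Determinant
import Mathlib.LinearAlgebra.FiniteDimensional.Basic
import Mathlib.LinearAlgebra.Matrix.ToLin
import Mathlib.FieldTheory.Finiteness
import Mathlib.RingTheory.TensorProduct.Finite
import Mathlib.Algebra.Ring.Opposite
import Mathlib.Algebra.Module.Opposite

/-!
# A descended free module of rank one has a generator (Noether–Deuring)
-/

set_option autoImplicit false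
universe u v w

open scoped TensorProduct

namespace Groth.Agent.GalDescLib

variable {k : Type u} [Field k] {K : Type v} [Field K] [Algebra k K]
  {A : Type w} [Ring A] [Algebra k A] [FiniteDimensional k A]

theorem isUnit_of_mul_eq_one' {w u : K ⊗[k] A} (h : w * u = 1) : IsUnit w := by
  have hs : Function.Surjective (LinearMap.mulLeft K w) := fun z => ⟨u * z, by
    simp [← mul_assoc, h]⟩
  have hi := LinearMap.injective_iff_surjective.2 hs
  have h2 : u * w = 1 := hi (by simp [← mul_assoc, h])
  exact ⟨⟨w, u, h, h2⟩, rfl⟩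

theorem exists_isUnit_of_infinite [Infinite k] (W : Submodule k (K ⊗[k] A))
    (hW : Submodule.span K (W : Set (K ⊗[k] A)) = ⊤) : ∃ w ∈ W, IsUnit w := by
  classical
  let b := Module.Free.chooseBasis K (K ⊗[k] A)
  haveI := Module.Free.ChooseBasisIndex.fintype K (K ⊗[k] A)
  have h1 : (1 : K ⊗[k] A) ∈ Submodule.span K (W : Set (K ⊗[k] A)) := by rw [hW]; trivial
  obtain ⟨n, c, g, hg⟩ := Submodule.mem_span_set'.1 h1
  let L : K ⊗[k] A →ₐ[K] Matrix (Module.Free.ChooseBasisIndex K (K ⊗[k] A))
      (Module.Free.ChooseBasisIndex K (K ⊗[k] A)) K := Algebra.leftMulMatrix b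
  let M : Matrix (Module.Free.ChooseBasisIndex K (K ⊗[k] A))
      (Module.Free.ChooseBasisIndex K (K ⊗[k] A)) (MvPolynomial (Fin n) K) :=
    ∑ i, (MvPolynomial.X i : MvPolynomial (Fin n) K) •
      (L (g i).1).map (MvPolynomial.C : K →+* MvPolynomial (Fin n) K)
  have hM : ∀ t : Fin n → K, (MvPolynomial.eval t) M.det = (L (∑ i, t i • (g i).1)).det := by
    intro t
    rw [RingHom.map_det]
    refine congrArg Matrix.det (Matrix.ext fun i j => ?_)
    simp [M, Matrix.sum_apply, RingHom.mapMatrix_apply]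
  have hne : M.det ≠ 0 := fun h0 => by
    have := hM c
    rw [h0, map_zero, hg, map_one, Matrix.det_one] at this
    exact zero_ne_one this
  obtain ⟨t, ht⟩ : ∃ t : Fin n → k,
      MvPolynomial.eval (fun i => algebraMap k K (t i)) M.det ≠ 0 := by
    by_contra! hall
    refine hne (MvPolynomial.funext_set (fun _ => Set.range (algebraMap k K))
      (fun _ => Set.infinite_range_of_injective (algebraMap k K).injective) fun x hx => ?_)
    choose t ht using fun i => hx i (Set.mem_univ i)
    rw [map_zero, ← funext ht, hall]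
  refine ⟨∑ i, t i • (g i).1, W.sum_mem fun i _ => W.smul_mem _ (g i).2, ?_⟩
  rw [hM] at ht
  simp only [algebraMap_smul] at ht
  obtain ⟨N, hN⟩ := (Matrix.isUnit_iff_isUnit_det _).2 (Ne.isUnit ht)
  set w := ∑ i, t i • (g i).1
  have hinj : Function.Injective (LinearMap.mulLeft K w) := by
    intro x y hxy
    have h2 : L w * L x = L w * L y := by rw [← map_mul, ← map_mul]; exact congrArg L hxy
    rw [← hN] at h2
    exact Algebra.leftMulMatrix_injective b (N.isUnit.mul_left_cancel h2)
  obtain ⟨u, hu⟩ := LinearMap.injective_iff_surjective.1 hinj 1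
  exact isUnit_of_mul_eq_one' hu

theorem exists_isUnit_of_finite [FiniteDimensional k K] [Finite k] (W : Submodule k (K ⊗[k] A))
    (hmul : ∀ w ∈ W, ∀ a : A, w * (1 ⊗ₜ a) ∈ W)
    (hbij : Function.Bijective (W.subtype.liftBaseChange K)) : ∃ w ∈ W, IsUnit w := by
  classical
  letI : Module Aᵐᵒᵖ (K ⊗[k] A) :=
    Module.compHom _ (RingHom.op
      (Algebra.TensorProduct.includeRight : A →ₐ[k] K ⊗[k] A).toRingHom)
  have hsmul : ∀ (a : Aᵐᵒᵖ) (z : K ⊗[k] A), a • z = z * (1 ⊗ₜ a.unop) := fun _ _ => rfl
  let W' : Submodule Aᵐᵒᵖ (K ⊗[k] A) :=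
    { W.toAddSubmonoid with smul_mem' := fun a z hz => by rw [hsmul]; exact hmul z hz _ }
  let b := Module.finBasis k K
  set d := Module.finrank k K
  have hWfin : Finite W := Module.finite_of_finite k
  haveI : Finite W' := hWfin
  haveI : Finite A := Module.finite_of_finite k
  let Φ : (Fin d → W') →ₗ[Aᵐᵒᵖ] (K ⊗[k] A) :=
    { toFun := fun f => ∑ i, b i • (f i).1
      map_add' := fun f g => by simp [smul_add, Finset.sum_add_distrib]
      map_smul' := fun a f => by
        simp [hsmul, Finset.sum_mul, smul_mul_assoc] }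
  have hΦ : Function.Bijective Φ := by
    have : (Φ : (Fin d → W') → K ⊗[k] A) = W.subtype.liftBaseChange K ∘
        (TensorProduct.equivFinsuppOfBasisLeft b).symm ∘
        (Finsupp.linearEquivFunOnFinite k W (Fin d)).symm := by
      funext f
      show ∑ i, b i • (f i).1 = W.subtype.liftBaseChange K
        ((TensorProduct.equivFinsuppOfBasisLeft b).symm
          ((Finsupp.linearEquivFunOnFinite k W (Fin d)).symm f))
      rw [TensorProduct.equivFinsuppOfBasisLeft_symm_apply, Finsupp.sum_fintype _ _ (by simp),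
        map_sum]
      simp [Finsupp.linearEquivFunOnFinite]
    rw [this]
    exact hbij.comp ((LinearEquiv.bijective _).comp (LinearEquiv.bijective _))
  let Ψ : (Fin d → A) →ₗ[Aᵐᵒᵖ] (K ⊗[k] A) :=
    { toFun := fun f => ∑ i, b i ⊗ₜ f i
      map_add' := fun f g => by simp [TensorProduct.tmul_add, Finset.sum_add_distrib]
      map_smul' := fun a f => by
        simp [hsmul, Finset.sum_mul, Algebra.TensorProduct.tmul_mul_tmul] }
  have hΨ : Function.Bijective Ψ := by
    have : (Ψ : (Fin d → A) → K ⊗[k] A) = (TensorProduct.equivFinsuppOfBasisLeft b).symm ∘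
        (Finsupp.linearEquivFunOnFinite k A (Fin d)).symm := by
      funext f
      show ∑ i, b i ⊗ₜ f i = (TensorProduct.equivFinsuppOfBasisLeft b).symm
          ((Finsupp.linearEquivFunOnFinite k A (Fin d)).symm f)
      rw [TensorProduct.equivFinsuppOfBasisLeft_symm_apply, Finsupp.sum_fintype _ _ (by simp)]
      simp [Finsupp.linearEquivFunOnFinite]
    rw [this]
    exact (LinearEquiv.bijective _).comp (LinearEquiv.bijective _)
  obtain ⟨e⟩ := nonempty_linearEquiv_of_pow (R := Aᵐᵒᵖ) (d := d) Module.finrank_pos.ne'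
    ((LinearEquiv.ofBijective Ψ hΨ).trans (LinearEquiv.ofBijective Φ hΦ).symm)
  refine ⟨(e 1).1, (e 1).2, ?_⟩
  have hrange : (W : Set (K ⊗[k] A)) ⊆ LinearMap.range (LinearMap.mulLeft K ((e 1).1)) := by
    intro z hz
    refine ⟨1 ⊗ₜ e.symm ⟨z, hz⟩, ?_⟩
    have h1 : e (MulOpposite.op (e.symm ⟨z, hz⟩) • (1 : A)) = ⟨z, hz⟩ := by
      rw [op_smul_eq_mul, one_mul, e.apply_symm_apply]
    rw [map_smul] at h1
    exact congrArg Subtype.val h1
  obtain ⟨u, hu⟩ : (1 : K ⊗[k] A) ∈ LinearMap.range (LinearMap.mulLeft K ((e 1).1)) := by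
    obtain ⟨z, hz⟩ := hbij.2 1
    rw [← hz]
    clear hz
    induction z using TensorProduct.induction_on with
    | zero => simp
    | tmul c w =>
      rw [LinearMap.liftBaseChange_tmul]
      exact Submodule.smul_mem _ c (hrange w.2)
    | add x y hx hy => rw [map_add]; exact add_mem hx hy
  exact isUnit_of_mul_eq_one' hu

theorem exists_isUnit [FiniteDimensional k K] (W : Submodule k (K ⊗[k] A))
    (hmul : ∀ w ∈ W, ∀ a : A, w * (1 ⊗ₜ a) ∈ W)
    (hbij : Function.Bijective (W.subtype.liftBaseChange K)) : ∃ w ∈ W, IsUnit w := by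
  rcases finite_or_infinite k with h | h
  · exact exists_isUnit_of_finite W hmul hbij
  · refine exists_isUnit_of_infinite W (eq_top_iff.2 fun m _ => ?_)
    obtain ⟨z, rfl⟩ := hbij.2 m
    induction z using TensorProduct.induction_on with
    | zero => simp
    | tmul c w =>
      rw [LinearMap.liftBaseChange_tmul]
      exact Submodule.smul_mem _ c (Submodule.subset_span w.2)
    | add x y hx hy => rw [map_add]; exact add_mem (hx trivial) (hy trivial)

end Groth.Agent.GalDescLib
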